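import Cfsg.Agent.H917.Conj.Basic
import Cfsg.Agent.H430.Conj.Heis
import Cfsg.Agent.H937.Conj.CC

/-!
# The conjugation character: all tools (helper430)

`H917/Conj/Basic.lean` (tools F, K, H1, transport, final step), `H430/Conj/Heis.lean` (tool H2),
`H937/Conj/CC.lean` (tool M).
-/
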