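import Cfsg.Prelude.Def_Classification2
import Cfsg.Agent.H430.Conj.Tools
import Cfsg.Agent.H430.Conj.AsmAlt
import Cfsg.Agent.H917.CJ.PslRow
import Cfsg.Agent.H917.CJ.PsuAll
import Cfsg.Agent.H93.CJ.OMinus
import Cfsg.Agent.H93.CJ.OOdd
import Cfsg.Agent.H530.CJ.Plus
import Cfsg.Agent.H973.Conj.Sz
import Cfsg.Agent.H293.Conj.RowE8
import Cfsg.Agent.H352.Conj.TE6
import Cfsg.Agent.H24.Conj.Ree
import Cfsg.Agent.H759.Conj.RowG2
import Cfsg.Agent.H267.ConjF4.Row
import Cfsg.Agent.H206.Conj.TD4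
import Cfsg.Agent.H507.Conj.ESix
import Cfsg.Agent.H724.Conj.E7
import Cfsg.Agent.H783.Psu3Row
import Cfsg.Agent.H476.Conj.TwF4
import Cfsg.Agent.H476.Conj.Tits

/-!
# S4792: assembly of the rows of the groups of Lie type (helper430)
-/

set_option autoImplicit false

open Cfsg

namespace Cfsg.Agent.H430.Conj

universe u

/-- The unitary row. -/
theorem row_psu {S : Type u} [Group S] [Finite S] (hs : IsSimpleGroup S) (h : IsPSU S)
    (hnot : ¬ ∃ (n q : ℕ) (F : Type) (_ : Field F) (_ : Fintype F), 3 ≤ n ∧ Nat.Coprime n (2 * (q + 1)) ∧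
      Fintype.card F = q ^ 2 ∧ Nonempty (S ≃* Cfsg.PSU n F q)) : Row S := by
  obtain ⟨F, _, _, n, q, hF, hn, hn3, ⟨e⟩⟩ := h
  have hco : ¬ Nat.Coprime n (2 * (q + 1)) := fun hco =>
    hnot ⟨n, q, F, inferInstance, inferInstance, hn, hco, hF, ⟨e⟩⟩
  by_cases h4 : 4 ≤ n
  · exact H917.CJ.row_psu hs hF h4 hco e
  · obtain rfl : n = 3 := by omega
    refine H783.Psu3.row_psu3 hs hF ?_ ⟨e⟩
    by_contra h
    apply hco
    exact Nat.Coprime.mul_right (by norm_num) ((Nat.Prime.coprime_iff_not_dvd Nat.prime_three).2 h)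

/-- The exceptional groups of Lie type. -/
theorem row_exceptional {S : Type u} [Group S] [Finite S] (hs : IsSimpleGroup S) (h : IsExceptionalLieType S) :
    Row S := by
  rcases h with h | h | h | h | h | h | h | h | h | h | h
  · exact H759.Conj.row_g2 h hs
  · exact H267.ConjF4.row_f4 hs h
  · exact H507.Conj.row_e6 hs h
  · exact H724.Conj.E7.row_E7 hs h
  · exact H293.Conj.RowE8.row_e8 hs h
  · exact H352.Conj.row_te6 h
  · exact H206.Conj.row_td4 h
  · exact H973.Conj.row_sz h hs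
  · exact H24.Conj.row_ree h
  · exact H476.Conj.row_tf4 h hs
  · exact H476.Conj.row_tits h hs

/-- All known simple groups. -/
theorem row_known {S : Type u} [Group S] [Finite S] (hs : IsSimpleGroup S) (h : IsKnownSimple' S)
    (hna : ¬ IsMulCommutative S)
    (hnot : ¬ ∃ (n q : ℕ) (F : Type) (_ : Field F) (_ : Fintype F), 3 ≤ n ∧ Nat.Coprime n (2 * (q + 1)) ∧
      Fintype.card F = q ^ 2 ∧ Nonempty (S ≃* Cfsg.PSU n F q))
    (hSpor : ∀ {S : Type u} [Group S] [Finite S], IsSimpleGroup S → IsSporadicGroup S → Row S) : Row S := by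
  rcases h with h | h | h | h | h | h | h | h | h | h
  · exfalso
    apply hna
    have : Fact (Nat.card S).Prime := ⟨h⟩
    have h1 : IsCyclic S := isCyclic_of_prime_card rfl
    exact ⟨⟨fun a b => (IsCyclic.commGroup (α := S)).mul_comm a b⟩⟩
  · exact row_alt h
  · exact H917.CJ.row_isPSL hs h
  · exact H917.CJ.row_isPSp hs h
  · exact row_psu hs h hnot
  · exact H93.CJ.row_of_isPOmegaOdd h
  · exact H530.CJ.row_isPOmegaPlus h
  · exact H93.CJ.row_of_isPOmegaMinus h
  · exact row_exceptional hs h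
  · exact hSpor hs h

end Cfsg.Agent.H430.Conj
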